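import Cfsg.Agent.Lib.CosetTable.Sound
import Cfsg.Agent.Lib.CosetTable.SuzCover5346.Data

/-! Generated certificate data for the coset table `SuzCover5346`. -/

namespace Cfsg.Agent.Lib.CosetTable.SuzCover5346

open Cfsg.Agent.Lib.CosetTable

set_option Elab.async false
set_option maxRecDepth 10000

theorem rows_ok_run1 : rangeAll (tab.rowOK cert 85705) 512 0 = true := by decide +kernel

theorem rows_ok_run2 : rangeAll (tab.rowOK cert 85705) 512 512 = true := by decide +kernel

theorem rows_ok_run3 : rangeAll (tab.rowOK cert 85705) 512 1024 = true := by decide +kernel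

theorem rows_ok_run4 : rangeAll (tab.rowOK cert 85705) 512 1536 = true := by decide +kernel

theorem rows_ok_run5 : rangeAll (tab.rowOK cert 85705) 512 2048 = true := by decide +kernel

theorem rows_ok_run6 : rangeAll (tab.rowOK cert 85705) 512 2560 = true := by decide +kernel

theorem rows_ok_run7 : rangeAll (tab.rowOK cert 85705) 512 3072 = true := by decide +kernel

theorem rows_ok_run8 : rangeAll (tab.rowOK cert 85705) 512 3584 = true := by decide +kernel

theorem rows_ok_run9 : rangeAll (tab.rowOK cert 85705) 512 4096 = true := by decide +kernel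

theorem rows_ok_run10 : rangeAll (tab.rowOK cert 85705) 512 4608 = true := by decide +kernel

theorem rows_ok_run11 : rangeAll (tab.rowOK cert 85705) 226 5120 = true := by decide +kernel

theorem rows_ok : Below (tab.rowOK cert 85705) 5346 :=
  (((((((((((Below.zero _).step (b := 512) rows_ok_run1 rfl).step (b := 1024) rows_ok_run2 rfl).step (b := 1536) rows_ok_run3 rfl).step (b := 2048) rows_ok_run4 rfl).step (b := 2560) rows_ok_run5 rfl).step (b := 3072) rows_ok_run6 rfl).step (b := 3584) rows_ok_run7 rfl).step (b := 4096) rows_ok_run8 rfl).step (b := 4608) rows_ok_run9 rfl).step (b := 5120) rows_ok_run10 rfl).step (b := 5346) rows_ok_run11 rfl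

end Cfsg.Agent.Lib.CosetTable.SuzCover5346
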