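import Cfsg.Agent.Lib.CosetTable.Cover
import Cfsg.Agent.Lib.CosetTable.SuzCover5346.RowsOK
import Cfsg.Agent.Lib.CosetTable.SuzCover5346.Steps1
import Cfsg.Agent.Lib.CosetTable.SuzCover5346.Steps2

/-! Generated certificate data for the coset table `SuzCover5346`. -/

namespace Cfsg.Agent.Lib.CosetTable.SuzCover5346

open Cfsg.Agent.Lib.CosetTable

theorem words_ok : cert.wordsOK = true := by decide +kernel

theorem cover : Cover cert tab 85705 where
  same := rfl
  pos := by decide +kernel
  rules := by decide +kernel
  steps := (part2 (part1 (Cert.Upto.zero _)))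
  rows := rows_ok

end Cfsg.Agent.Lib.CosetTable.SuzCover5346
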